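import Cfsg.Agent.Lib.Recog.SporBound.Sound

set_option autoImplicit false
set_option maxRecDepth 20000

/-! Generated certificate data, piece 0: Fi23 tower, cosets of a parabolic in the next <bcde>. -/

namespace CfsgLib.Recog.SporBound.TriF3
open CfsgLib.Recog.SporBound

noncomputable def ft0 : Q (ℕ) := (.leaf 0x4000044000040000430000400004200003000034000030000330000200002400002000021000010000120000100001100000000003000000000020000000000100003000041000020000320000100002300000000014)
noncomputable def ct0 : Q (ℕ) := (.leaf 0x400003000020000100000)
noncomputable def st0 : Q (List ℕ) := (.leaf [20, 21, 22, 0x4000000000000003000010000100006, 0x5000000000000003000010000100008, 0x100007000010000000003000020000100005, 0x1000000000600000000010000000005000020000000009, 0x2000010000800001000020000000005000030000000007, 0x20000a000020000000003000030000000008, 0x3000020000900002000030000000005000040000000004, 0x30000b000030000000003000040000000005, 0x30000c000030000000003000040000000006])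
noncomputable def et0 : Q (List ℕ) := (.leaf [0x40000100000, 0x50000100000, 0x60000100000, 0x100001, 0x70000100001, 0x80000100001, 0x10000100002, 0x100000, 0x90000100002, 0x20000100003, 0x10000100001, 0xa0000100002, 0x30000100004, 0x20000100002, 0xb0000100003, 0xc0000100003, 0x30000100003, 0xd0000100004, 0xe0000100004, 0xf0000100004])

end CfsgLib.Recog.SporBound.TriF3
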